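import Groth.Agent.Lib.GeomIrr6.Ring

/-!
# Geometrically irreducible generic fibres give geometrically irreducible nearby fibres: descent
-/

universe u

open TensorProduct

set_option linter.style.haveILetI false

noncomputable section

namespace GrothLib.GeomIrr6

theorem isDomain_away {R : Type u} [CommRing R] [IsDomain R] {w : R} (hw : w ≠ 0) :
    IsDomain (Localization.Away w) :=
  IsLocalization.isDomain_localization (powers_le_nonZeroDivisors_of_noZeroDivisors hw)

theorem isDomain_quot_poly {F : Type u} [Field F] {n : ℕ} {P : MvPolynomial (Fin n) F} (hP : Irreducible P) :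
    IsDomain (MvPolynomial (Fin n) F ⧸ Ideal.span {P}) := by
  rw [Ideal.Quotient.isDomain_iff_prime, Ideal.span_singleton_prime hP.ne_zero]
  exact UniqueFactorizationMonoid.irreducible_iff_prime.mp hP

/-- An algebra birational to a geometrically irreducible hypersurface has domains as nearby fibres. -/
theorem exists_isDomain_stage (T C Ω : Type u) [CommRing T] [IsDomain T] [IsNoetherianRing T] [CommRing C]
    [IsDomain C] [Algebra T C] [Algebra.FiniteType T C] [Field Ω] [IsAlgClosed Ω] [Algebra T Ω]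
    (hinj : Function.Injective (algebraMap T Ω)) (h : C) (hh : h ≠ 0) {n : ℕ} (P w : MvPolynomial (Fin n) T)
    (hP : Irreducible (P.map (algebraMap T Ω)))
    (hw : ¬ P.map (algebraMap T Ω) ∣ w.map (algebraMap T Ω))
    (e : Ω ⊗[T] Localization.Away h ≃ₐ[Ω] Ω ⊗[T] Localization.Away (Ideal.Quotient.mk (Ideal.span {P}) w)) :
    ∃ g : T, g ≠ 0 ∧ ∀ (F : Type u) [Field F] [IsAlgClosed F] [Algebra T F], algebraMap T F g ≠ 0 →
      IsDomain (F ⊗[T] C) := by
  classical
  let Q := MvPolynomial (Fin n) T ⧸ Ideal.span {P}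
  let C' := Localization.Away h
  let Q' := Localization.Away (Ideal.Quotient.mk (Ideal.span {P}) w)
  haveI : Algebra.FiniteType T Q := Algebra.FiniteType.of_surjective (Ideal.Quotient.mkₐ T (Ideal.span {P}))
    Ideal.Quotient.mk_surjective
  haveI : Algebra.FinitePresentation T C' := Algebra.FinitePresentation.of_finiteType.mp
    (Algebra.FiniteType.trans ‹Algebra.FiniteType T C› (IsLocalization.finiteType_of_monoid_fg (Submonoid.powers h) C'))
  haveI : Algebra.FinitePresentation T Q' := Algebra.FinitePresentation.of_finiteType.mp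
    (Algebra.FiniteType.trans ‹Algebra.FiniteType T Q›
      (IsLocalization.finiteType_of_monoid_fg (Submonoid.powers (Ideal.Quotient.mk (Ideal.span {P}) w)) Q'))
  obtain ⟨T₂, hT₂, ⟨e₂⟩⟩ := GrothLib.Approx6.exists_stage_algEquiv (A₀ := T) (A := Ω) (P := C') (Q := Q') e
  haveI : Algebra.FiniteType T T₂ := T₂.fg_iff_finiteType.mp hT₂
  have hmap : (algebraMap T₂ Ω).comp (algebraMap T T₂) = algebraMap T Ω := rfl
  obtain ⟨gP, hgP, hPnear⟩ := exists_irreducible_near T₂ Ω Subtype.val_injective (P.map (algebraMap T T₂))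
    (by rw [MvPolynomial.map_map, hmap]; exact hP)
  obtain ⟨θΩ, hθΩ⟩ := exists_quotEquiv T Ω P
  obtain ⟨gw, hgw, hwnear⟩ := exists_ne_zero_near T Q hinj (Ideal.Quotient.mk (Ideal.span {P}) w) fun h0 => hw <| by
    have := congrArg θΩ h0
    rw [hθΩ, map_zero] at this
    exact Ideal.mem_span_singleton.mp (Ideal.Quotient.eq_zero_iff_mem.mp this)
  obtain ⟨gh, hgh, hinjnear⟩ := exists_injective_away T C h hh
  obtain ⟨g', hg', hlift⟩ := exists_point_lift T T₂ (fun a b hab => hinj (congrArg Subtype.val hab)) gP hgP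
  refine ⟨g' * gw * gh, mul_ne_zero (mul_ne_zero hg' hgw) hgh, fun F _ _ _ hF => ?_⟩
  rw [map_mul, map_mul] at hF
  obtain ⟨π, hπ⟩ := hlift F (left_ne_zero_of_mul (left_ne_zero_of_mul hF))
  letI : Algebra T₂ F := π.toRingHom.toAlgebra
  haveI : IsScalarTower T T₂ F := IsScalarTower.of_algebraMap_eq fun z => (π.commutes z).symm
  have hPF : Irreducible (P.map (algebraMap T F)) := by
    have := hPnear F hπ
    rwa [MvPolynomial.map_map, ← IsScalarTower.algebraMap_eq] at this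
  haveI := isDomain_quot_poly hPF
  obtain ⟨θ, hθ⟩ := exists_quotEquiv T F P
  obtain ⟨eQ⟩ := exists_awayEquiv θ (Ideal.Quotient.mk (Ideal.span {P}) w)
  haveI : IsDomain (Localization.Away (θ ((1 : F) ⊗ₜ[T] Ideal.Quotient.mk (Ideal.span {P}) w))) :=
    isDomain_away fun h0 => hwnear F (right_ne_zero_of_mul (left_ne_zero_of_mul hF))
      (θ.injective (h0.trans (map_zero θ).symm))
  haveI : IsDomain (F ⊗[T] Q') := eQ.injective.isDomain
  let c₁ := Algebra.TensorProduct.cancelBaseChange T T₂ F F C'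
  let c₂ := Algebra.TensorProduct.cancelBaseChange T T₂ F F Q'
  let m := Algebra.TensorProduct.congr (AlgEquiv.refl (R := T₂) (A₁ := F)) e₂
  let χ : F ⊗[T] C' →+* F ⊗[T] Q' :=
    c₂.toAlgHom.toRingHom.comp (m.toAlgHom.toRingHom.comp c₁.symm.toAlgHom.toRingHom)
  have hχ : Function.Injective χ := c₂.injective.comp (m.injective.comp c₁.symm.injective)
  haveI : IsDomain (F ⊗[T] C') := hχ.isDomain
  exact (hinjnear F (right_ne_zero_of_mul hF)).isDomain

/-- Descent of the quotient by an ideal generated at a stage. -/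
theorem exists_baseChange_quot (T Ω B R : Type u) [CommRing T] [CommRing Ω] [CommRing B] [CommRing R] [Algebra T Ω]
    [Algebra T B] [Algebra Ω R] (θ : Ω ⊗[T] B ≃ₐ[Ω] R) (N : Ideal R) (G : Set R) (hG : Ideal.span G = N)
    (hlift : ∀ x ∈ G, ∃ y, θ (1 ⊗ₜ y) = x) :
    ∃ (I : Ideal B) (Θ : Ω ⊗[T] (B ⧸ I) ≃ₐ[Ω] R ⧸ N),
      (∀ y, y ∈ I ↔ θ (1 ⊗ₜ y) ∈ N) ∧ ∀ y, Θ (1 ⊗ₜ Ideal.Quotient.mk I y) = Ideal.Quotient.mk N (θ (1 ⊗ₜ y)) := by
  letI : Algebra T R := ((algebraMap Ω R).comp (algebraMap T Ω)).toAlgebra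
  haveI : IsScalarTower T Ω R := IsScalarTower.of_algebraMap_eq fun _ => rfl
  let π : B →ₐ[T] R ⧸ N := ((Ideal.Quotient.mkₐ T N).comp (θ.toAlgHom.restrictScalars T)).comp
    Algebra.TensorProduct.includeRight
  let I := RingHom.ker π.toRingHom
  let χ : (B ⧸ I) →ₐ[T] R ⧸ N := Ideal.Quotient.liftₐ I π fun x hx => hx
  let f : Ω ⊗[T] (B ⧸ I) →ₐ[Ω] R ⧸ N := Algebra.TensorProduct.lift (Algebra.ofId Ω _) χ fun _ _ => .all _ _
  let β : R →ₐ[Ω] Ω ⊗[T] (B ⧸ I) :=
    (Algebra.TensorProduct.map (AlgHom.id Ω Ω) (Ideal.Quotient.mkₐ T I)).comp θ.symm.toAlgHom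
  have hβ : ∀ y, β (θ (1 ⊗ₜ y)) = (1 : Ω) ⊗ₜ[T] Ideal.Quotient.mk I y := fun y => by simp [β]
  have hπ : ∀ y, π y = Ideal.Quotient.mk N (θ (1 ⊗ₜ y)) := fun y => rfl
  have hI : ∀ y, y ∈ I ↔ θ (1 ⊗ₜ y) ∈ N := fun y => by
    rw [RingHom.mem_ker, AlgHom.toRingHom_eq_coe, AlgHom.coe_toRingHom, hπ, Ideal.Quotient.eq_zero_iff_mem]
  have hβN : N ≤ RingHom.ker β.toRingHom := by
    subst hG
    refine Ideal.span_le.mpr fun x hx => ?_
    obtain ⟨y, rfl⟩ := hlift x hx
    show β _ = 0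
    rw [hβ, Ideal.Quotient.eq_zero_iff_mem.mpr ((hI y).mpr (Ideal.subset_span hx))]
    exact TensorProduct.tmul_zero _ _
  let g : (R ⧸ N) →ₐ[Ω] Ω ⊗[T] (B ⧸ I) := Ideal.Quotient.liftₐ N β fun x hx => hβN hx
  have hf : ∀ y, f ((1 : Ω) ⊗ₜ[T] Ideal.Quotient.mk I y) = Ideal.Quotient.mk N (θ (1 ⊗ₜ y)) := fun y => by
    show algebraMap Ω (R ⧸ N) 1 * π y = _
    rw [map_one, one_mul, hπ]
  refine ⟨I, AlgEquiv.ofAlgHom f g ?_ ?_, hI, hf⟩
  · refine Ideal.Quotient.algHom_ext Ω (AlgHom.ext fun r => ?_)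
    show f (β r) = Ideal.Quotient.mk N r
    have : (f.comp β).comp θ.toAlgHom = (Ideal.Quotient.mkₐ Ω N).comp θ.toAlgHom :=
      Algebra.TensorProduct.ext (Subsingleton.elim _ _) (AlgHom.ext fun y => by
        show f (β (θ (1 ⊗ₜ y))) = Ideal.Quotient.mk N (θ (1 ⊗ₜ y))
        rw [hβ, hf])
    have := congr($this (θ.symm r))
    simpa using this
  · refine Algebra.TensorProduct.ext (Subsingleton.elim _ _) (Ideal.Quotient.algHom_ext T (AlgHom.ext fun y => ?_))
    show g (f (1 ⊗ₜ Ideal.Quotient.mk I y)) = 1 ⊗ₜ Ideal.Quotient.mk I y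
    rw [hf]
    exact hβ y

/-- An ideal whose generators are nilpotent up to invertible scalars does not affect irreducibility. -/
theorem isPrime_nilradical_of_quot (T F B : Type u) [CommRing T] [Field F] [CommRing B] [Algebra T F] [Algebra T B]
    (I : Ideal B) (G : Set B) (hG : Ideal.span G = I)
    (hnil : ∀ x ∈ G, ∃ (a : T) (k : ℕ), algebraMap T F a ≠ 0 ∧ a • x ^ k = 0) [IsDomain (F ⊗[T] (B ⧸ I))] :
    (nilradical (F ⊗[T] B)).IsPrime := by
  refine isPrime_nilradical_of_surjective (Algebra.TensorProduct.map (AlgHom.id T F) (Ideal.Quotient.mkₐ T I)).toRingHom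
    (LinearMap.lTensor_surjective F (g := (Ideal.Quotient.mkₐ T I).toLinearMap) Ideal.Quotient.mk_surjective) ?_
    (isPrime_nilradical_of_isDomain _)
  refine le_trans (Algebra.TensorProduct.lTensor_ker _ Ideal.Quotient.mk_surjective).le ?_
  rw [show RingHom.ker (Ideal.Quotient.mkₐ T I) = I from Ideal.mk_ker]
  subst hG
  rw [Ideal.map_span, Ideal.span_le]
  rintro _ ⟨x, hx, rfl⟩
  obtain ⟨a, k, ha, hak⟩ := hnil x hx
  refine mem_nilradical.mpr ⟨k, ?_⟩
  have h1 : algebraMap T F a • ((1 : F) ⊗ₜ[T] (x ^ k)) = 0 := by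
    rw [algebraMap_smul, ← TensorProduct.tmul_smul, hak, TensorProduct.tmul_zero]
  show ((1 : F) ⊗ₜ[T] x) ^ k = 0
  rw [Algebra.TensorProduct.tmul_pow, one_pow]
  exact (smul_eq_zero.mp h1).resolve_left ha

theorem isPrime_nilradical_congr {R S : Type u} [CommRing R] [CommRing S] (χ : R ≃+* S) :
    (nilradical R).IsPrime ↔ (nilradical S).IsPrime :=
  ⟨isPrime_nilradical_of_surjective χ.symm.toRingHom χ.symm.surjective
      (fun x hx => by rw [show x = 0 from χ.symm.injective (hx.trans (map_zero χ.symm).symm)]; exact Ideal.zero_mem _),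
    isPrime_nilradical_of_surjective χ.toRingHom χ.surjective
      (fun x hx => by rw [show x = 0 from χ.injective (hx.trans (map_zero χ).symm)]; exact Ideal.zero_mem _)⟩

/-- The noetherian case of `exists_isPrime_nilradical_near`. -/
theorem exists_isPrime_nilradical_near_noetherian (A C Ω : Type u) [CommRing A] [IsDomain A] [IsNoetherianRing A]
    [CommRing C] [Algebra A C] [Algebra.FiniteType A C] [Field Ω] [IsAlgClosed Ω] [Algebra A Ω]
    (hinj : Function.Injective (algebraMap A Ω)) (hprime : (nilradical (Ω ⊗[A] C)).IsPrime) :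
    ∃ g : A, g ≠ 0 ∧ ∀ (F : Type u) [Field F] [IsAlgClosed F] [Algebra A F], algebraMap A F g ≠ 0 →
      (nilradical (F ⊗[A] C)).IsPrime := by
  classical
  let N := nilradical (Ω ⊗[A] C)
  haveI : N.IsPrime := hprime
  haveI : IsNoetherianRing (Ω ⊗[A] C) := Algebra.FiniteType.isNoetherianRing Ω _
  let D := (Ω ⊗[A] C) ⧸ N
  haveI : Algebra.FiniteType Ω D := Algebra.FiniteType.of_surjective (Ideal.Quotient.mkₐ Ω N)
    Ideal.Quotient.mk_surjective
  obtain ⟨n, P, w, h, hP, hw, hh, ⟨e₀⟩⟩ := exists_hypersurface (Ω := Ω) D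
  obtain ⟨G, hG⟩ := IsNoetherian.noetherian N
  obtain ⟨hl, rfl⟩ := Ideal.Quotient.mk_surjective h
  obtain ⟨S₁, hS₁, hmem⟩ := GrothLib.Approx6.exists_stage_lift (A := Ω) (Q := C) (insert hl G)
  let T := S₁ ⊔ Algebra.adjoin A ((P.coeffs ∪ w.coeffs : Finset Ω) : Set Ω)
  have hT : T.FG := hS₁.sup (Subalgebra.fg_adjoin_finset _)
  haveI : Algebra.FiniteType A T := T.fg_iff_finiteType.mp hT
  haveI : IsNoetherianRing T := Algebra.FiniteType.isNoetherianRing A T
  have hTinj : Function.Injective (algebraMap T Ω) := Subtype.val_injective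
  obtain ⟨P₁, hP₁⟩ : P ∈ Set.range (MvPolynomial.map (algebraMap T Ω)) :=
    MvPolynomial.mem_range_map_iff_coeffs_subset.mpr fun c hc =>
      ⟨⟨c, SetLike.le_def.mp le_sup_right (Algebra.subset_adjoin (Finset.mem_union_left _ hc))⟩, rfl⟩
  obtain ⟨w₁, hw₁⟩ : w ∈ Set.range (MvPolynomial.map (algebraMap T Ω)) :=
    MvPolynomial.mem_range_map_iff_coeffs_subset.mpr fun c hc =>
      ⟨⟨c, SetLike.le_def.mp le_sup_right (Algebra.subset_adjoin (Finset.mem_union_right _ hc))⟩, rfl⟩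
  rw [← hP₁] at hP hw e₀
  rw [← hw₁] at hw e₀
  have hlift : ∀ x ∈ insert hl G, ∃ y, GrothLib.Approx6.toA C T y = x := fun x hx => by
    obtain ⟨y, hy⟩ := hmem x hx
    exact ⟨GrothLib.Approx6.mapQ C (le_sup_left : S₁ ≤ T) y, (GrothLib.Approx6.toA_mapQ C _ _).trans hy⟩
  haveI : IsNoetherianRing ((T : Type u) ⊗[A] C) := Algebra.FiniteType.isNoetherianRing T _
  let c := Algebra.TensorProduct.cancelBaseChange A T Ω Ω C
  have hc : ∀ y, c ((1 : Ω) ⊗ₜ[T] y) = GrothLib.Approx6.toA C T y := fun y => by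
    induction y using TensorProduct.induction_on with
    | zero => simp
    | add a b ha hb => simp only [TensorProduct.tmul_add, map_add, ha, hb]
    | tmul t q => simp [c, GrothLib.Approx6.toA, Algebra.smul_def]
  obtain ⟨I, Θ, hI, hΘ'⟩ := exists_baseChange_quot T Ω ((T : Type u) ⊗[A] C) (Ω ⊗[A] C) c N G hG fun x hx => by
    obtain ⟨y, hy⟩ := hlift x (Finset.mem_insert_of_mem hx)
    exact ⟨y, (hc y).trans hy⟩
  let C₁ := ((T : Type u) ⊗[A] C) ⧸ I
  haveI : IsDomain C₁ := (Ideal.Quotient.isDomain_iff_prime I).mpr (by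
    rw [show I = N.comap (c.toRingHom.comp
        (Algebra.TensorProduct.includeRight (R := T) (A := Ω) (B := (T : Type u) ⊗[A] C)).toRingHom) from
      Ideal.ext hI]
    infer_instance)
  haveI : Algebra.FiniteType T C₁ := Algebra.FiniteType.of_surjective (Ideal.Quotient.mkₐ T I)
    Ideal.Quotient.mk_surjective
  obtain ⟨hy, hhy⟩ := hlift hl (Finset.mem_insert_self _ _)
  have hΘ : Θ ((1 : Ω) ⊗ₜ[T] Ideal.Quotient.mk I hy) = Ideal.Quotient.mk N hl := (hΘ' hy).trans (by rw [hc, hhy])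
  obtain ⟨a₁⟩ := exists_awayEquiv Θ (Ideal.Quotient.mk I hy)
  rw [hΘ] at a₁
  obtain ⟨θ, hθ⟩ := exists_quotEquiv T Ω P₁
  obtain ⟨a₂⟩ := exists_awayEquiv θ (Ideal.Quotient.mk (Ideal.span {P₁}) w₁)
  rw [hθ] at a₂
  obtain ⟨g₁, hg₁, hdom⟩ := exists_isDomain_stage T C₁ Ω hTinj (Ideal.Quotient.mk I hy)
    (fun h0 => hh (by
      rw [← hhy, ← hc]
      exact Ideal.Quotient.eq_zero_iff_mem.mpr ((hI hy).mp (Ideal.Quotient.eq_zero_iff_mem.mp h0))))
    P₁ w₁ hP hw (a₁.trans (e₀.trans a₂.symm))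
  -- the ideal `I` is nilpotent on nearby fibres
  obtain ⟨GI, hGI⟩ := IsNoetherian.noetherian I
  have hnil : ∀ x : GI, ∃ (a : T) (k : ℕ), a ≠ 0 ∧ a • (x : (T : Type u) ⊗[A] C) ^ k = 0 := fun x => by
    have hx : GrothLib.Approx6.toA C T x ∈ N := hc x ▸ (hI x).mp (hGI.le (Ideal.subset_span x.2))
    obtain ⟨k, hk⟩ := mem_nilradical.mp hx
    obtain ⟨a, ha, hak⟩ := exists_kill (Ω := Ω) hTinj ((x : (T : Type u) ⊗[A] C) ^ k)
      (c.injective (by rw [hc, map_pow, hk]; exact (map_zero c).symm))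
    exact ⟨a, k, ha, hak⟩
  choose a k ha hak using hnil
  obtain ⟨g₀, hg₀, hpt⟩ := exists_point_lift A T (fun x y hxy => hinj (congrArg Subtype.val hxy))
    (g₁ * ∏ x, a x) (mul_ne_zero hg₁ (Finset.prod_ne_zero_iff.mpr fun x _ => ha x))
  refine ⟨g₀, hg₀, fun F _ _ _ hF => ?_⟩
  obtain ⟨π, hπ⟩ := hpt F hF
  letI : Algebra T F := π.toRingHom.toAlgebra
  haveI : IsScalarTower A T F := IsScalarTower.of_algebraMap_eq fun z => (π.commutes z).symm
  rw [map_mul, map_prod] at hπ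
  haveI := hdom F (left_ne_zero_of_mul hπ)
  haveI hp := isPrime_nilradical_of_quot T F ((T : Type u) ⊗[A] C) I GI hGI fun x hx =>
    ⟨a ⟨x, hx⟩, k ⟨x, hx⟩, Finset.prod_ne_zero_iff.mp (right_ne_zero_of_mul hπ) _ (Finset.mem_univ _), hak ⟨x, hx⟩⟩
  exact (isPrime_nilradical_congr (Algebra.TensorProduct.cancelBaseChange A T F F C).toRingEquiv).mp hp

/-- The finitely presented case of `exists_isPrime_nilradical_near`. -/
theorem exists_isPrime_nilradical_near_fp (A C Ω : Type u) [CommRing A] [IsDomain A] [CommRing C] [Algebra A C]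
    [Algebra.FinitePresentation A C] [Field Ω] [IsAlgClosed Ω] [Algebra A Ω]
    (hinj : Function.Injective (algebraMap A Ω)) (hprime : (nilradical (Ω ⊗[A] C)).IsPrime) :
    ∃ g : A, g ≠ 0 ∧ ∀ (F : Type u) [Field F] [IsAlgClosed F] [Algebra A F], algebraMap A F g ≠ 0 →
      (nilradical (F ⊗[A] C)).IsPrime := by
  obtain ⟨R, B₀, _, _, hR, -, hB₀, ⟨e⟩⟩ := GrothLib.Approx6.exists_model A C ∅
  haveI : Algebra.FiniteType ℤ R := R.fg_iff_finiteType.mp hR
  haveI : IsNoetherianRing R := Algebra.FiniteType.isNoetherianRing ℤ R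
  have transfer : ∀ (F : Type u) [Field F] [Algebra A F],
      (nilradical (F ⊗[A] C)).IsPrime ↔ (nilradical (F ⊗[R] B₀)).IsPrime := fun F _ _ =>
    isPrime_nilradical_congr
      ((Algebra.TensorProduct.congr (AlgEquiv.refl (R := A) (A₁ := F)) e.symm).toRingEquiv.trans
        (Algebra.TensorProduct.cancelBaseChange R A F F B₀).toRingEquiv)
  obtain ⟨g, hg, hnear⟩ := exists_isPrime_nilradical_near_noetherian R B₀ Ω
    (fun x y h => Subtype.ext (hinj h)) ((transfer Ω).mp hprime)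
  exact ⟨g, fun h => hg (Subtype.ext h), fun F _ _ _ hF => (transfer F).mpr (hnear F hF)⟩

/-- **An algebra with geometrically irreducible generic fibre has geometrically irreducible nearby fibres.** -/
theorem exists_isPrime_nilradical_near (A C Ω : Type u) [CommRing A] [IsDomain A] [CommRing C] [Algebra A C]
    [Algebra.FiniteType A C] [Field Ω] [IsAlgClosed Ω] [Algebra A Ω]
    (hinj : Function.Injective (algebraMap A Ω)) (hprime : (nilradical (Ω ⊗[A] C)).IsPrime) :
    ∃ g : A, g ≠ 0 ∧ ∀ (F : Type u) [Field F] [IsAlgClosed F] [Algebra A F], algebraMap A F g ≠ 0 →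
      (nilradical (F ⊗[A] C)).IsPrime := by
  obtain ⟨g₀, -, hg₀, -, -, hfp, -⟩ :=
    GrothLib.GenFree.exists_free_and_finitePresentation (R := A) C C (1 : A) one_ne_zero
  let A' := Localization.Away g₀
  have hle : Submonoid.powers g₀ ≤ nonZeroDivisors A := powers_le_nonZeroDivisors_of_noZeroDivisors hg₀
  haveI : IsDomain A' := IsLocalization.isDomain_localization hle
  have hu : IsUnit (algebraMap A Ω g₀) :=
    isUnit_iff_ne_zero.mpr fun h => hg₀ (hinj (h.trans (map_zero _).symm))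
  letI : Algebra A' Ω := (IsLocalization.Away.lift (S := A') g₀ (g := algebraMap A Ω) hu).toAlgebra
  haveI : IsScalarTower A A' Ω := IsScalarTower.of_algebraMap_eq fun z => (IsLocalization.Away.lift_eq g₀ hu z).symm
  have hinj' : Function.Injective (algebraMap A' Ω) := (IsLocalization.lift_injective_iff _).mpr fun x y =>
    ⟨fun h => congrArg _ (IsLocalization.injective A' hle h), fun h => congrArg _ (hinj h)⟩
  have transfer : ∀ (F : Type u) [Field F] [Algebra A F] [Algebra A' F] [IsScalarTower A A' F],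
      (nilradical (F ⊗[A] C)).IsPrime ↔ (nilradical (F ⊗[A'] (A' ⊗[A] C))).IsPrime := fun F _ _ _ _ =>
    isPrime_nilradical_congr (Algebra.TensorProduct.cancelBaseChange A A' F F C).symm.toRingEquiv
  obtain ⟨g₁, hg₁, hnear⟩ := exists_isPrime_nilradical_near_fp A' (A' ⊗[A] C) Ω hinj' ((transfer Ω).mp hprime)
  obtain ⟨⟨a, ⟨_, k, rfl⟩⟩, hga⟩ := IsLocalization.surj (Submonoid.powers g₀) g₁
  refine ⟨g₀ * a, mul_ne_zero hg₀ fun h => ?_, fun F _ _ _ hF => ?_⟩
  · rw [h, map_zero] at hga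
    exact hg₁ ((IsLocalization.map_units A' (⟨g₀ ^ k, k, rfl⟩ : Submonoid.powers g₀)).mul_left_eq_zero.mp hga)
  · rw [map_mul] at hF
    have hu' : IsUnit (algebraMap A F g₀) := isUnit_iff_ne_zero.mpr (left_ne_zero_of_mul hF)
    letI : Algebra A' F := (IsLocalization.Away.lift (S := A') g₀ (g := algebraMap A F) hu').toAlgebra
    haveI : IsScalarTower A A' F := IsScalarTower.of_algebraMap_eq fun z => (IsLocalization.Away.lift_eq g₀ hu' z).symm
    refine (transfer F).mpr (hnear F fun h => right_ne_zero_of_mul hF ?_)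
    rw [IsScalarTower.algebraMap_apply A A' F, ← hga, map_mul, h, zero_mul]

end GrothLib.GeomIrr6
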