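import Mathlib.FieldTheory.SeparablyGenerated
import Mathlib.FieldTheory.PrimitiveElement
import Mathlib.RingTheory.Polynomial.GaussLemma
import Mathlib.RingTheory.Polynomial.UniqueFactorization
import Mathlib.RingTheory.EssentialFiniteness
import Mathlib.RingTheory.Localization.FractionRing
import Mathlib.Algebra.MvPolynomial.Equiv
import Mathlib.FieldTheory.IsAlgClosed.Basic
import Mathlib.RingTheory.Localization.Away.Basic

/-!
# A variety over an algebraically closed field is birational to a hypersurface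
-/

universe u

set_option linter.style.haveILetI false

noncomputable section

namespace GrothLib.GeomIrr6

variable (Ω L : Type u) [Field Ω] [Field L] [Algebra Ω L]

/-- A separably generated finitely generated field is generated by algebraically independent elements and
one algebraic element. -/
theorem exists_generators [IsAlgClosed Ω] [Algebra.EssFiniteType Ω L] :
    ∃ (n : ℕ) (x : Fin n → L) (θ : L), AlgebraicIndependent Ω x ∧
      IsAlgebraic (Algebra.adjoin Ω (Set.range x)) θ ∧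
      IntermediateField.adjoin Ω (Set.range (Fin.cons θ x : Fin (n + 1) → L)) = ⊤ := by
  obtain ⟨s, hs, hsep⟩ := exists_isTranscendenceBasis_and_isSeparable_of_perfectField Ω L
  let K := IntermediateField.adjoin Ω (s : Set L)
  haveI : Algebra.EssFiniteType K L := Algebra.EssFiniteType.of_comp Ω K L
  haveI : FiniteDimensional K L := by
    obtain ⟨S, hS⟩ := IntermediateField.fg_top K L
    haveI : FiniteDimensional K (IntermediateField.adjoin K (S : Set L)) :=
      IntermediateField.finiteDimensional_adjoin fun x _ => Algebra.IsIntegral.isIntegral x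
    rw [hS] at this
    exact IntermediateField.topEquiv.toLinearEquiv.finiteDimensional
  obtain ⟨θ, hθ⟩ := Field.exists_primitive_element K L
  let e := s.equivFin.symm
  let x : Fin s.card → L := fun i => (e i : L)
  have hrange : Set.range x = (s : Set L) := by
    ext y
    constructor
    · rintro ⟨i, rfl⟩
      exact (e i).2
    · intro hy
      exact ⟨e.symm ⟨y, hy⟩, by simp [x]⟩
  refine ⟨s.card, x, θ, hs.1.comp e e.injective, ?_, ?_⟩
  · rw [hrange]
    have := hs.isAlgebraic.isAlgebraic θ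
    have h : Set.range ((↑) : s → L) = (s : Set L) := Subtype.range_coe
    rwa [h] at this
  · rw [Fin.range_cons, hrange, Set.insert_eq, Set.union_comm,
      ← IntermediateField.adjoin_adjoin_left Ω (s : Set L) {θ}, hθ, IntermediateField.restrictScalars_top]

/-- The kernel of evaluation at such generators is principal, generated by an irreducible polynomial. -/
theorem exists_irreducible_generator {n : ℕ} (x : Fin n → L) (θ : L) (hx : AlgebraicIndependent Ω x)
    (hθ : IsAlgebraic (Algebra.adjoin Ω (Set.range x)) θ) :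
    ∃ P : MvPolynomial (Fin (n + 1)) Ω, Irreducible P ∧
      ∀ r, MvPolynomial.aeval (Fin.cons θ x : Fin (n + 1) → L) r = 0 ↔ P ∣ r := by
  classical
  let R := MvPolynomial (Fin n) Ω
  letI : Algebra R L := (MvPolynomial.aeval x).toRingHom.toAlgebra
  have hinj : Function.Injective (algebraMap R L) := hx
  haveI : IsScalarTower Ω R L := IsScalarTower.of_algebraMap_eq fun c => ((MvPolynomial.aeval x).commutes c).symm
  let K := FractionRing R
  haveI : FaithfulSMul R L := (faithfulSMul_iff_algebraMap_injective R L).mpr hinj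
  letI : Algebra K L := FractionRing.liftAlgebra R L
  haveI : IsScalarTower R K L := FractionRing.isScalarTower_liftAlgebra R L
  obtain ⟨q₀, hq₀, hq₀θ⟩ := hθ
  let q : Polynomial R := q₀.map hx.aevalEquiv.symm.toAlgHom.toRingHom
  have hq : q ≠ 0 := (Polynomial.map_ne_zero_iff hx.aevalEquiv.symm.injective).mpr hq₀
  have hqθ : Polynomial.aeval θ q = 0 := by
    rw [← hq₀θ, Polynomial.aeval_def, Polynomial.aeval_def, Polynomial.eval₂_map]
    congr 1
    refine RingHom.ext fun z => ?_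
    show MvPolynomial.aeval x (hx.aevalEquiv.symm z) = _
    rw [← hx.algebraMap_aevalEquiv, AlgEquiv.apply_symm_apply]
  -- an irreducible factor vanishing at `θ`
  obtain ⟨P₀, hP₀, hP₀θ⟩ : ∃ P : Polynomial R, Irreducible P ∧ Polynomial.aeval θ P = 0 := by
    have hmem : (Multiset.map (Polynomial.aeval (R := R) θ) (UniqueFactorizationMonoid.factors q)).prod = 0 := by
      obtain ⟨w, hw⟩ := UniqueFactorizationMonoid.factors_prod hq
      rw [← map_multiset_prod]
      rw [← hw, map_mul] at hqθ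
      exact (mul_eq_zero.mp hqθ).resolve_right (w.isUnit.map (Polynomial.aeval (R := R) θ)).ne_zero
    obtain ⟨P, hP, hPθ⟩ := Multiset.mem_map.mp (Multiset.prod_eq_zero_iff.mp hmem)
    exact ⟨P, UniqueFactorizationMonoid.irreducible_of_factor P hP, hPθ⟩
  have hdeg : P₀.natDegree ≠ 0 := fun h => by
    rw [Polynomial.eq_C_of_natDegree_eq_zero h, Polynomial.aeval_C] at hP₀θ
    refine hP₀.ne_zero ?_
    rw [Polynomial.eq_C_of_natDegree_eq_zero h, hinj (hP₀θ.trans (map_zero _).symm), map_zero]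
  have hprim : P₀.IsPrimitive := hP₀.isPrimitive hdeg
  have hK : Irreducible (P₀.map (algebraMap R K)) := (hprim.irreducible_iff_irreducible_map_fraction_map).mp hP₀
  have hdvd : ∀ r : Polynomial R, Polynomial.aeval θ r = 0 ↔ P₀ ∣ r := fun r => by
    constructor
    · intro hr
      refine hprim.dvd_of_fraction_map_dvd_fraction_map (K := K) ?_
      have h1 : minpoly K θ ∣ P₀.map (algebraMap R K) :=
        minpoly.dvd K θ (by rw [Polynomial.aeval_map_algebraMap]; exact hP₀θ)
      have hint : IsIntegral K θ := isAlgebraic_iff_isIntegral.mp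
        ⟨P₀.map (algebraMap R K), hK.ne_zero, by rw [Polynomial.aeval_map_algebraMap]; exact hP₀θ⟩
      obtain ⟨c, hc⟩ := h1
      rcases hK.isUnit_or_isUnit hc with hu | hu
      · exact absurd hu (minpoly.not_isUnit K θ)
      · rw [hc, IsUnit.mul_right_dvd hu]
        exact minpoly.dvd K θ (by rw [Polynomial.aeval_map_algebraMap]; exact hr)
    · rintro ⟨c, rfl⟩
      rw [map_mul, hP₀θ, zero_mul]
  let ε := MvPolynomial.finSuccEquiv Ω n
  have hcomp : ((Polynomial.aeval (R := R) θ).restrictScalars Ω).comp ε.toAlgHom =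
      MvPolynomial.aeval (Fin.cons θ x : Fin (n + 1) → L) := by
    refine MvPolynomial.algHom_ext fun i => ?_
    induction i using Fin.cases with
    | zero =>
      show Polynomial.aeval θ (MvPolynomial.finSuccEquiv Ω n (MvPolynomial.X 0)) = _
      rw [MvPolynomial.finSuccEquiv_X_zero, Polynomial.aeval_X, MvPolynomial.aeval_X, Fin.cons_zero]
    | succ j =>
      show Polynomial.aeval θ (MvPolynomial.finSuccEquiv Ω n (MvPolynomial.X j.succ)) = _
      rw [MvPolynomial.finSuccEquiv_X_succ, Polynomial.aeval_C, MvPolynomial.aeval_X, Fin.cons_succ]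
      exact MvPolynomial.aeval_X x j
  refine ⟨ε.symm P₀, (MulEquiv.irreducible_iff (f := ε.symm.toMulEquiv)).mpr hP₀, fun r => ?_⟩
  rw [← hcomp]
  show Polynomial.aeval θ (ε r) = 0 ↔ _
  rw [hdvd]
  constructor
  · intro h
    have := map_dvd ε.symm.toAlgHom h
    simpa using this
  · intro h
    have := map_dvd ε.toAlgHom h
    simpa using this

variable {Ω L}

theorem exists_away_range {B : Type u} [CommRing B] [Algebra Ω B] (ψ : B →ₐ[Ω] L)
    (hψ : Function.Injective ψ) (h : B) (hh : ψ h ≠ 0) :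
    ∃ Λ : Localization.Away h →ₐ[Ω] L, Function.Injective Λ ∧
      Λ.range = Algebra.adjoin Ω (Set.range ψ ∪ {(ψ h)⁻¹}) := by
  have hu : ∀ y : Submonoid.powers h, IsUnit (ψ y) := by
    rintro ⟨_, k, rfl⟩
    rw [map_pow]
    exact (isUnit_iff_ne_zero.mpr hh).pow k
  let Λ : Localization.Away h →ₐ[Ω] L := IsLocalization.liftAlgHom hu
  refine ⟨Λ, ?_, le_antisymm ?_ (Algebra.adjoin_le ?_)⟩
  · refine (IsLocalization.lift_injective_iff (S := Localization.Away h) _).mpr fun a b => ?_
    refine ⟨fun hab => ?_, fun hab => ?_⟩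
    · have := congrArg Λ hab
      simpa [Λ] using this
    · rw [hψ hab]
  · rintro _ ⟨z, rfl⟩
    obtain ⟨⟨b, _, k, rfl⟩, hz⟩ := IsLocalization.surj (Submonoid.powers h) z
    have hΛ : ∀ b, Λ (algebraMap B (Localization.Away h) b) = ψ b := fun b => by simp [Λ]
    have h1 : Λ z * ψ h ^ k = ψ b := by
      rw [← hΛ h, ← hΛ b, ← map_pow, ← map_pow, ← map_mul]
      exact congrArg Λ hz
    show Λ z ∈ _
    have hins : (ψ h)⁻¹ ∈ Algebra.adjoin Ω (Set.range ψ ∪ {(ψ h)⁻¹}) :=
      Algebra.subset_adjoin (Or.inr (Set.mem_singleton _))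
    have h2 : Λ z = ψ b * (ψ h)⁻¹ ^ k := by
      rw [← h1, mul_assoc, ← mul_pow, mul_inv_cancel₀ hh, one_pow, mul_one]
    rw [h2]
    exact mul_mem (Algebra.subset_adjoin (Or.inl ⟨b, rfl⟩))
      (Subalgebra.pow_mem _ hins k)
  · rintro _ (⟨b, rfl⟩ | rfl)
    · exact ⟨algebraMap B _ b, by simp [Λ]⟩
    · refine ⟨IsLocalization.Away.invSelf h, eq_inv_of_mul_eq_one_right ?_⟩
      show ψ h * Λ _ = 1
      rw [show ψ h = Λ (algebraMap B (Localization.Away h) h) by simp [Λ], ← map_mul,
        IsLocalization.Away.mul_invSelf, map_one]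

/-- A domain of finite type over an algebraically closed field has a basic open isomorphic to a basic open
of an irreducible hypersurface. -/
theorem exists_hypersurface (D : Type u) [CommRing D] [IsDomain D] [Algebra Ω D] [Algebra.FiniteType Ω D]
    [IsAlgClosed Ω] :
    ∃ (n : ℕ) (P w : MvPolynomial (Fin n) Ω) (h : D), Irreducible P ∧ ¬ P ∣ w ∧ h ≠ 0 ∧
      Nonempty (Localization.Away h ≃ₐ[Ω] Localization.Away (Ideal.Quotient.mk (Ideal.span {P}) w)) := by
  classical
  let L := FractionRing D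
  haveI : Algebra.EssFiniteType D L := Algebra.EssFiniteType.of_isLocalization L (nonZeroDivisors D)
  haveI : Algebra.EssFiniteType Ω L := Algebra.EssFiniteType.comp Ω D L
  obtain ⟨n, x, θ, hx, hθ, htop⟩ := exists_generators Ω L
  obtain ⟨P, hP, hker⟩ := exists_irreducible_generator Ω L x θ hx hθ
  let v : Fin (n + 1) → L := Fin.cons θ x
  let φ := MvPolynomial.aeval (R := Ω) v
  let ψ := IsScalarTower.toAlgHom Ω D L
  have hψ : Function.Injective ψ := IsFractionRing.injective D L
  choose u d hd hud using fun i => IsFractionRing.div_surjective D (v i)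
  have hd0 : ∀ i, ψ (d i) ≠ 0 := fun i => IsFractionRing.to_map_ne_zero_of_mem_nonZeroDivisors (hd i)
  let h₀ := ∏ i, d i
  obtain ⟨G, hG⟩ := ‹Algebra.FiniteType Ω D›.1
  have hgen : ∀ g : D, ∃ a b : MvPolynomial (Fin (n + 1)) Ω, φ b ≠ 0 ∧ ψ g * φ b = φ a := fun g => by
    obtain ⟨a, b, hab⟩ := (IntermediateField.mem_adjoin_range_iff Ω v (ψ g)).mp (htop.symm ▸ IntermediateField.mem_top)
    by_cases hb : φ b = 0
    · refine ⟨0, 1, by simp, ?_⟩
      rw [hab, show MvPolynomial.aeval v b = 0 from hb, div_zero, map_one, mul_one, map_zero]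
    · exact ⟨a, b, hb, by rw [hab]; exact div_mul_cancel₀ _ hb⟩
  choose a b hb hab using hgen
  let w₀ := ∏ g ∈ G, b g
  have hw₀ : φ w₀ ≠ 0 := by
    rw [map_prod]; exact Finset.prod_ne_zero_iff.mpr fun g _ => hb g
  obtain ⟨m, e, he, hme⟩ := IsFractionRing.div_surjective D (φ w₀)
  have hm : ψ m ≠ 0 := fun h0 => hw₀ (by rw [← hme]; exact (div_eq_zero_iff.mpr (Or.inl h0)))
  have hh₀ : ψ h₀ ≠ 0 := by rw [map_prod]; exact Finset.prod_ne_zero_iff.mpr fun i _ => hd0 i
  let h := h₀ * m
  have hh : ψ h ≠ 0 := by rw [map_mul]; exact mul_ne_zero hh₀ hm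
  -- `D` lies in the localisation of the hypersurface at `w₀`
  have hD : ∀ c : D, ∃ (z : MvPolynomial (Fin (n + 1)) Ω) (k : ℕ), ψ c * φ w₀ ^ k = φ z := by
    let S : Subalgebra Ω D :=
      { carrier := {c | ∃ (z : MvPolynomial (Fin (n + 1)) Ω) (k : ℕ), ψ c * φ w₀ ^ k = φ z}
        mul_mem' := by
          rintro c c' ⟨z, k, hz⟩ ⟨z', k', hz'⟩
          exact ⟨z * z', k + k', by rw [map_mul, map_mul, ← hz, ← hz', pow_add]; ring⟩
        add_mem' := by
          rintro c c' ⟨z, k, hz⟩ ⟨z', k', hz'⟩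
          exact ⟨z * w₀ ^ k' + z' * w₀ ^ k, k + k', by
            simp only [map_add, map_mul, map_pow, ← hz, ← hz', pow_add]; ring⟩
        algebraMap_mem' := fun c => ⟨MvPolynomial.C c, 0, by
          rw [pow_zero, mul_one, AlgHom.commutes]
          exact (φ.commutes c).symm⟩ }
    intro c
    have hc : c ∈ Algebra.adjoin Ω (G : Set D) := hG ▸ Algebra.mem_top
    exact Algebra.adjoin_le (S := S) (fun g hg => ⟨a g * ∏ g' ∈ G.erase g, b g', 1, by
      rw [pow_one, map_mul, ← hab g, mul_assoc, ← map_mul, Finset.mul_prod_erase G b hg]⟩) hc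
  obtain ⟨z, l, hz⟩ := hD h
  have hz0 : φ z ≠ 0 := hz ▸ mul_ne_zero hh (pow_ne_zero l hw₀)
  let w := w₀ * z
  have hw : φ w ≠ 0 := by rw [map_mul]; exact mul_ne_zero hw₀ hz0
  refine ⟨n + 1, P, w, h, hP, fun hd => hw ((hker w).mpr hd), fun h0 => hh (by rw [h0, map_zero]), ?_⟩
  let φ' : (MvPolynomial (Fin (n + 1)) Ω ⧸ Ideal.span {P}) →ₐ[Ω] L :=
    Ideal.Quotient.liftₐ _ φ fun r hr => (hker r).mpr (Ideal.mem_span_singleton.mp hr)
  have hφ' : Function.Injective φ' := (injective_iff_map_eq_zero φ').mpr fun q hq => by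
    obtain ⟨r, rfl⟩ := Ideal.Quotient.mk_surjective q
    exact Ideal.Quotient.eq_zero_iff_mem.mpr (Ideal.mem_span_singleton.mpr ((hker r).mp hq))
  obtain ⟨Λ₁, hΛ₁, hr₁⟩ := exists_away_range ψ hψ h hh
  obtain ⟨Λ₂, hΛ₂, hr₂⟩ := exists_away_range φ' hφ' (Ideal.Quotient.mk (Ideal.span {P}) w) hw
  let S₁ := Algebra.adjoin Ω (Set.range ψ ∪ {(ψ h)⁻¹})
  have hinv₀ : (φ w₀)⁻¹ ∈ S₁ := by
    have : (φ w₀)⁻¹ = ψ (e * h₀) * (ψ h)⁻¹ := by
      rw [eq_mul_inv_iff_mul_eq₀ hh, inv_mul_eq_iff_eq_mul₀ hw₀, ← hme]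
      show ψ (h₀ * m) = ψ m / ψ e * ψ (e * h₀)
      rw [map_mul, map_mul, ← mul_assoc,
        div_mul_cancel₀ _ (show ψ e ≠ 0 from IsFractionRing.to_map_ne_zero_of_mem_nonZeroDivisors he), mul_comm]
    rw [this]
    exact mul_mem (Algebra.subset_adjoin (Or.inl ⟨_, rfl⟩)) (Algebra.subset_adjoin (Or.inr (Set.mem_singleton _)))
  have hv : ∀ i, v i ∈ S₁ := fun i => by
    have : v i = ψ (u i * (∏ j ∈ Finset.univ.erase i, d j) * m) * (ψ h)⁻¹ := by
      rw [← hud i]
      show ψ (u i) / ψ (d i) = _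
      rw [div_eq_iff (hd0 i), mul_right_comm, ← div_eq_mul_inv, eq_div_iff hh, ← map_mul]
      rw [← map_mul]
      congr 1
      simp only [h, h₀, ← Finset.mul_prod_erase Finset.univ d (Finset.mem_univ i)]
      ring
    rw [this]
    exact mul_mem (Algebra.subset_adjoin (Or.inl ⟨_, rfl⟩)) (Algebra.subset_adjoin (Or.inr (Set.mem_singleton _)))
  have hφ : ∀ r, φ r ∈ S₁ := fun r => by
    have : φ.range ≤ S₁ := by
      rw [← Algebra.adjoin_range_eq_range_aeval]
      exact Algebra.adjoin_le (Set.range_subset_iff.mpr hv)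
    exact this ⟨r, rfl⟩
  have heq : Λ₁.range = Λ₂.range := by
    rw [hr₁, hr₂]
    apply le_antisymm <;> refine Algebra.adjoin_le (Set.union_subset ?_ (Set.singleton_subset_iff.mpr ?_))
    · rintro _ ⟨c, rfl⟩
      obtain ⟨zc, k, hzc⟩ := hD c
      have : ψ c = φ' (Ideal.Quotient.mk _ (zc * z ^ k)) * (φ' (Ideal.Quotient.mk _ w))⁻¹ ^ k := by
        show ψ c = φ (zc * z ^ k) * (φ (w₀ * z))⁻¹ ^ k
        rw [map_mul, map_mul, map_pow, ← hzc, mul_assoc (ψ c), ← mul_pow, mul_assoc (ψ c), ← mul_pow,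
          mul_inv_cancel₀ (mul_ne_zero hw₀ hz0), one_pow, mul_one]
      rw [this]
      refine mul_mem (Algebra.subset_adjoin (Or.inl ⟨_, rfl⟩)) (Subalgebra.pow_mem _ ?_ k)
      exact Algebra.subset_adjoin (Or.inr (Set.mem_singleton _))
    · have : (ψ h)⁻¹ = φ' (Ideal.Quotient.mk _ (w₀ ^ l * w₀)) * (φ' (Ideal.Quotient.mk _ w))⁻¹ := by
        show (ψ h)⁻¹ = φ (w₀ ^ l * w₀) * (φ (w₀ * z))⁻¹
        rw [map_mul φ, map_mul φ, map_pow, eq_mul_inv_iff_mul_eq₀ (mul_ne_zero hw₀ hz0),
          inv_mul_eq_iff_eq_mul₀ hh, ← hz]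
        ring
      rw [this]
      exact mul_mem (Algebra.subset_adjoin (Or.inl ⟨_, rfl⟩)) (Algebra.subset_adjoin (Or.inr (Set.mem_singleton _)))
    · rintro _ ⟨q, rfl⟩
      obtain ⟨r, rfl⟩ := Ideal.Quotient.mk_surjective q
      exact hφ r
    · have : (φ' (Ideal.Quotient.mk _ w))⁻¹ = (ψ h)⁻¹ * (φ w₀)⁻¹ ^ (l + 1) := by
        show (φ (w₀ * z))⁻¹ = _
        rw [map_mul φ, ← hz, mul_inv, mul_inv, inv_pow, pow_succ, mul_inv]
        ring
      rw [this]
      exact mul_mem (Algebra.subset_adjoin (Or.inr (Set.mem_singleton _))) (pow_mem hinv₀ _)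
  exact ⟨(AlgEquiv.ofInjective Λ₁ hΛ₁).trans ((Subalgebra.equivOfEq _ _ heq).trans
    (AlgEquiv.ofInjective Λ₂ hΛ₂).symm)⟩

end GrothLib.GeomIrr6
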