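import Groth.Agent.Lib.GeomRed6.Nilp

/-!
# Vanishing on the geometric generic fibre and lifting of field points
-/

universe u

open TensorProduct

set_option linter.style.haveILetI false

noncomputable section

namespace GrothLib.GeomIrr6

/-- What vanishes on the geometric generic fibre is killed by a nonzero scalar. -/
theorem exists_kill {T Ω M : Type u} [CommRing T] [IsDomain T] [Field Ω] [Algebra T Ω]
    (hinj : Function.Injective (algebraMap T Ω)) [AddCommGroup M] [Module T M] (x : M)
    (hx : (1 : Ω) ⊗ₜ[T] x = 0) : ∃ a : T, a ≠ 0 ∧ a • x = 0 := by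
  let K := FractionRing T
  haveI : FaithfulSMul T Ω := (faithfulSMul_iff_algebraMap_injective T Ω).mpr hinj
  letI : Algebra K Ω := FractionRing.liftAlgebra T Ω
  haveI : IsScalarTower T K Ω := FractionRing.isScalarTower_liftAlgebra T Ω
  have h1 : Function.Injective ((Algebra.linearMap K Ω).rTensor (K ⊗[T] M)) :=
    Module.Flat.rTensor_preserves_injective_linearMap _ (algebraMap K Ω).injective
  have h2 : TensorProduct.mk T K M 1 x = 0 := by
    apply (TensorProduct.lid K (K ⊗[T] M)).symm.injective
    apply h1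
    apply (AlgebraTensorModule.cancelBaseChange T K K Ω M).injective
    simpa using hx
  haveI : IsLocalizedModule (nonZeroDivisors T) (TensorProduct.mk T K M 1) := inferInstance
  obtain ⟨⟨a, ha⟩, hax⟩ := (IsLocalizedModule.eq_zero_iff (nonZeroDivisors T) (TensorProduct.mk T K M 1)).mp h2
  exact ⟨a, nonZeroDivisors.ne_zero ha, hax⟩

/-- Field points lift along an injective map of finite type of domains, avoiding a given element. -/
theorem exists_point_lift (A T : Type u) [CommRing A] [IsDomain A] [CommRing T] [IsDomain T] [Algebra A T]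
    [Algebra.FiniteType A T] (hinjT : Function.Injective (algebraMap A T)) (g' : T) (hg' : g' ≠ 0) :
    ∃ g : A, g ≠ 0 ∧ ∀ (F : Type u) [Field F] [IsAlgClosed F] [Algebra A F], algebraMap A F g ≠ 0 →
      ∃ π : T →ₐ[A] F, π g' ≠ 0 := by
  obtain ⟨g, hg, h1, h2⟩ := GrothLib.FibreDim6.exists_avoid_domain A T hinjT g' hg'
  refine ⟨g, hg, fun F _ _ _ hF => ?_⟩
  let p : PrimeSpectrum A := ⟨RingHom.ker (algebraMap A F), RingHom.ker_isPrime _⟩
  obtain ⟨w, hw⟩ := h2 p hF
  obtain ⟨Q, -, hQ, hgQ⟩ := h1 w fun hgw => hF (show g ∈ p.asIdeal from hw ▸ hgw)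
  let U := Localization.Away g'
  haveI : Algebra.FiniteType A U := Algebra.FiniteType.trans ‹Algebra.FiniteType A T›
    (IsLocalization.finiteType_of_monoid_fg (Submonoid.powers g') U)
  haveI : Nontrivial (F ⊗[A] U) := by
    letI : Algebra U Q.asIdeal.ResidueField := (IsLocalization.Away.lift (S := U) g'
      (g := algebraMap T Q.asIdeal.ResidueField)
      (isUnit_iff_ne_zero.mpr fun h => hgQ (Ideal.algebraMap_residueField_eq_zero.mp h))).toAlgebra
    haveI : IsScalarTower T U Q.asIdeal.ResidueField := IsScalarTower.of_algebraMap_eq fun z =>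
      (IsLocalization.Away.lift_eq g' _ z).symm
    haveI : IsScalarTower A U Q.asIdeal.ResidueField := IsScalarTower.of_algebraMap_eq fun z => by
      rw [IsScalarTower.algebraMap_apply A T U, ← IsScalarTower.algebraMap_apply T U,
        ← IsScalarTower.algebraMap_apply A T]
    let p' := p.asIdeal
    haveI : p'.IsPrime := p.2
    have hp : p' = Q.asIdeal.comap (algebraMap A T) := hw.symm.trans hQ.symm
    letI : Algebra p'.ResidueField F := (Ideal.ResidueField.lift p' (algebraMap A F) le_rfl
      (fun a ha => isUnit_iff_ne_zero.mpr ha)).toAlgebra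
    letI : Algebra p'.ResidueField Q.asIdeal.ResidueField :=
      (Ideal.ResidueField.mapₐ p' Q.asIdeal (Algebra.ofId A T) hp).toRingHom.toAlgebra
    haveI : IsScalarTower A p'.ResidueField F := IsScalarTower.of_algebraMap_eq fun z => by
      simp [RingHom.algebraMap_toAlgebra]
    haveI : IsScalarTower A p'.ResidueField Q.asIdeal.ResidueField := IsScalarTower.of_algebraMap_eq fun z =>
      ((Ideal.ResidueField.mapₐ p' Q.asIdeal (Algebra.ofId A T) hp).commutes z).symm
    haveI : Nontrivial (F ⊗[p'.ResidueField] Q.asIdeal.ResidueField) :=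
      ((Module.Free.chooseBasis p'.ResidueField Q.asIdeal.ResidueField).baseChange F).repr.toEquiv.nontrivial
    let θ : F ⊗[A] U →ₐ[A] F ⊗[p'.ResidueField] Q.asIdeal.ResidueField :=
      Algebra.TensorProduct.lift (IsScalarTower.toAlgHom A F _)
        ((Algebra.TensorProduct.includeRight.restrictScalars A).comp (IsScalarTower.toAlgHom A U Q.asIdeal.ResidueField))
        fun _ _ => .all _ _
    exact θ.domain_nontrivial
  obtain ⟨ε⟩ := GrothLib.GeomRed6.nonempty_point F (F ⊗[A] U)
  refine ⟨((ε.restrictScalars A).comp (Algebra.TensorProduct.includeRight (R := A) (A := F) (B := U))).comp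
    (IsScalarTower.toAlgHom A T U), ?_⟩
  exact ((IsLocalization.Away.algebraMap_isUnit (S := U) g').map
    ((ε.restrictScalars A).comp (Algebra.TensorProduct.includeRight (R := A) (A := F) (B := U)))).ne_zero

/-- An element which is nonzero on the geometric generic fibre is nonzero on nearby fibres. -/
theorem exists_ne_zero_near (A B : Type u) {Ω : Type u} [CommRing A] [IsDomain A] [CommRing B] [Algebra A B]
    [Algebra.FiniteType A B] [Field Ω] [Algebra A Ω] (hinj : Function.Injective (algebraMap A Ω)) (x : B)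
    (hx : (1 : Ω) ⊗ₜ[A] x ≠ 0) :
    ∃ g : A, g ≠ 0 ∧ ∀ (F : Type u) [Field F] [Algebra A F], algebraMap A F g ≠ 0 →
      (1 : F) ⊗ₜ[A] x ≠ 0 := by
  let I : Ideal B := Ideal.span {x}
  have hx' : ∀ a : A, a ≠ 0 → a • x ≠ 0 := fun a ha h0 => hx <| by
    have h : algebraMap A Ω a • ((1 : Ω) ⊗ₜ[A] x) = 0 := by
      rw [algebraMap_smul, ← TensorProduct.tmul_smul, h0, TensorProduct.tmul_zero]
    exact (smul_eq_zero.mp h).resolve_left fun h => ha (hinj (h.trans (map_zero _).symm))
  obtain ⟨g₁, -, hg₁, hfC⟩ := GrothLib.GenFree.gf_of_finiteType (R := A) B (B ⧸ I) (1 : A) one_ne_zero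
  obtain ⟨g, hd, hg, hfI⟩ := GrothLib.GenFree.gf_of_finiteType (R := A) B I g₁ hg₁
  refine ⟨g, hg, fun F _ _ hF h0 => ?_⟩
  haveI : Module.Free (Localization.Away g) (Localization.Away g ⊗[A] (B ⧸ I)) := (hfC.mono hd).free_tensor _
  haveI : Module.Free (Localization.Away g) (Localization.Away g ⊗[A] I) := hfI.free_tensor _
  have hu : IsUnit (algebraMap A F g) := isUnit_iff_ne_zero.mpr hF
  have hinj' := GrothLib.FibreDim6.lTensor_injective_of_flat_away (I.subtype.restrictScalars A)
    ((Submodule.mkQ I).restrictScalars A) (Submodule.injective_subtype I) (Submodule.mkQ_surjective I)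
    (LinearMap.exact_subtype_mkQ I) g F hu
  let L := Localization.Away g
  letI : Algebra L F := (IsLocalization.Away.lift g hu).toAlgebra
  haveI : IsScalarTower A L F := IsScalarTower.of_algebraMap_eq fun z => (IsLocalization.Away.lift_eq g hu z).symm
  haveI : Nontrivial (L ⊗[A] I) := by
    refine ⟨⟨TensorProduct.mk A L I 1 ⟨x, Ideal.mem_span_singleton_self x⟩, 0, fun h => ?_⟩⟩
    haveI : IsLocalizedModule (Submonoid.powers g) (TensorProduct.mk A L I 1) := inferInstance
    obtain ⟨⟨_, m, rfl⟩, hm⟩ := (IsLocalizedModule.eq_zero_iff (Submonoid.powers g) (TensorProduct.mk A L I 1)).mp h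
    exact hx' (g ^ m) (pow_ne_zero m hg) (congrArg Subtype.val hm)
  haveI : Nontrivial (F ⊗[A] I) := by
    let b := Module.Free.chooseBasis L (L ⊗[A] I)
    haveI := b.index_nonempty
    let b' : Module.Basis (Module.Free.ChooseBasisIndex L (L ⊗[A] I)) F (F ⊗[A] I) :=
      (b.baseChange F).map (AlgebraTensorModule.cancelBaseChange A L F F I)
    exact b'.repr.toEquiv.nontrivial
  obtain ⟨v, hv⟩ := exists_ne (0 : F ⊗[A] I)
  have hmul : ∀ w : F ⊗[A] I, ∃ c : F ⊗[A] B,
      (I.subtype.restrictScalars A).lTensor F w = c * ((1 : F) ⊗ₜ[A] x) := by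
    intro w
    induction w using TensorProduct.induction_on with
    | zero => exact ⟨0, by simp⟩
    | add a b ha hb =>
      obtain ⟨c, hc⟩ := ha
      obtain ⟨d, hd⟩ := hb
      exact ⟨c + d, by rw [map_add, hc, hd, add_mul]⟩
    | tmul k i =>
      obtain ⟨r, hr⟩ := Ideal.mem_span_singleton'.mp i.2
      exact ⟨k ⊗ₜ r, by
        rw [Algebra.TensorProduct.tmul_mul_tmul, mul_one, hr]
        rfl⟩
  obtain ⟨c, hc⟩ := hmul v
  rw [h0, mul_zero] at hc
  exact hv (hinj' (hc.trans (map_zero _).symm))

end GrothLib.GeomIrr6
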