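import Groth.Agent.Lib.GeomIrr6.Near
import Mathlib.Algebra.MvPolynomial.NoZeroDivisors
import Mathlib.Algebra.MvPolynomial.Nilpotent
import Mathlib.Data.Finsupp.Weight

/-!
# A geometrically irreducible polynomial stays irreducible on nearby fibres
-/

universe u

open TensorProduct MvPolynomial

set_option linter.style.haveILetI false

noncomputable section

namespace GrothLib.GeomIrr6

section field

variable {n : ℕ} {F : Type u} [Field F]

theorem isUnit_iff_totalDegree_zero {p : MvPolynomial (Fin n) F} :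
    IsUnit p ↔ p ≠ 0 ∧ p.totalDegree = 0 := by
  constructor
  · intro h
    obtain ⟨c, hc, rfl⟩ := MvPolynomial.isUnit_iff_eq_C_of_isReduced.mp h
    exact ⟨h.ne_zero, totalDegree_C c⟩
  · rintro ⟨hp, hd⟩
    rw [totalDegree_eq_zero_iff_eq_C.mp hd] at hp ⊢
    exact (isUnit_iff_ne_zero.mpr fun h => hp (by rw [h, map_zero])).map C

theorem exists_coeff_ne_zero {p : MvPolynomial (Fin n) F} {d : ℕ} (hp : p.totalDegree ≠ 0)
    (hd : p.totalDegree ≤ d) : ∃ m, m ≠ 0 ∧ m.degree ≤ d ∧ p.coeff m ≠ 0 := by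
  obtain ⟨m, hm, hm0⟩ : ∃ m ∈ p.support, m ≠ 0 := by
    by_contra h
    push Not at h
    exact hp (Nat.eq_zero_of_le_zero (Finset.sup_le fun m hm => by simp [h m hm]))
  exact ⟨m, hm0, le_trans (le_totalDegree hm) hd, mem_support_iff.mp hm⟩

theorem not_isUnit_of_coeff {p : MvPolynomial (Fin n) F} {m : Fin n →₀ ℕ} (hm : m ≠ 0) (h : p.coeff m ≠ 0) :
    ¬ IsUnit p := fun hu => by
  obtain ⟨c, -, rfl⟩ := MvPolynomial.isUnit_iff_eq_C_of_isReduced.mp hu
  rw [coeff_C, if_neg (Ne.symm hm)] at h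
  exact h rfl

end field

theorem finite_degree_le (n d : ℕ) : {m : Fin n →₀ ℕ | m.degree ≤ d}.Finite := by
  exact Finsupp.finite_of_degree_le d

variable (T Ω : Type u) [CommRing T] [IsDomain T] [Field Ω] [Algebra T Ω]

/-- A polynomial irreducible over an algebraically closed field stays irreducible on nearby fibres. -/
theorem exists_irreducible_near [IsAlgClosed Ω] (hinj : Function.Injective (algebraMap T Ω)) {n : ℕ}
    (P : MvPolynomial (Fin n) T) (hP : Irreducible (P.map (algebraMap T Ω))) :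
    ∃ g : T, g ≠ 0 ∧ ∀ (F : Type u) [Field F] [Algebra T F], algebraMap T F g ≠ 0 →
      Irreducible (P.map (algebraMap T F)) := by
  classical
  let d := P.totalDegree
  let M := {m : Fin n →₀ ℕ // m.degree ≤ d}
  haveI : Fintype M := (finite_degree_le n d).fintype
  let V := M ⊕ M ⊕ Fin 2
  let R := MvPolynomial V T
  -- the generic pair of polynomials
  let G : MvPolynomial (Fin n) R := ∑ m : M, monomial m.1 (X (.inl m))
  let H : MvPolynomial (Fin n) R := ∑ m : M, monomial m.1 (X (.inr (.inl m)))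
  let J : M → M → Ideal R := fun m₁ m₂ => Ideal.span
    (Set.range (fun m => (G * H).coeff m - C (P.coeff m)) ∪
      {X (.inr (.inr 0)) * X (.inl m₁) - 1, X (.inr (.inr 1)) * X (.inr (.inl m₂)) - 1})
  have hcoef : ∀ (j : M → V) (m : M), (∑ m' : M, monomial m'.1 (X (j m') : R)).coeff m.1 = X (j m) := fun j m => by
    rw [coeff_sum, Finset.sum_eq_single m (fun m' _ h => by rw [coeff_monomial, if_neg fun e => h (Subtype.ext e)])
      (fun h => absurd (Finset.mem_univ _) h), coeff_monomial, if_pos rfl]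
  have hkill : ∀ p : {m : M // m.1 ≠ 0} × {m : M // m.1 ≠ 0}, ∃ a : T, a ≠ 0 ∧ C a ∈ J p.1.1 p.2.1 := by
    rintro ⟨⟨m₁, hm₁⟩, m₂, hm₂⟩
    dsimp only
    by_cases hne : Nontrivial (Ω ⊗[T] (R ⧸ J m₁ m₂))
    · exfalso
      haveI : Algebra.FiniteType Ω (Ω ⊗[T] (R ⧸ J m₁ m₂)) := inferInstance
      obtain ⟨ε⟩ := GrothLib.GeomRed6.nonempty_point Ω (Ω ⊗[T] (R ⧸ J m₁ m₂))
      let ρ : R →ₐ[T] Ω := ((ε.restrictScalars T).comp
        (Algebra.TensorProduct.includeRight (R := T) (A := Ω) (B := R ⧸ J m₁ m₂))).comp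
          (Ideal.Quotient.mkₐ T (J m₁ m₂))
      have hρ : ∀ r ∈ J m₁ m₂, ρ r = 0 := fun r hr => by
        show ε ((1 : Ω) ⊗ₜ[T] Ideal.Quotient.mk (J m₁ m₂) r) = 0
        rw [Ideal.Quotient.eq_zero_iff_mem.mpr hr, TensorProduct.tmul_zero, map_zero]
      have heq : G.map ρ.toRingHom * H.map ρ.toRingHom = P.map (algebraMap T Ω) := by
        ext m
        rw [← map_mul, coeff_map, coeff_map]
        have := hρ _ (Ideal.subset_span (Or.inl ⟨m, rfl⟩))
        rw [map_sub, sub_eq_zero] at this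
        exact this.trans (ρ.commutes _)
      have hG : (G.map ρ.toRingHom).coeff m₁.1 ≠ 0 := by
        have h1 := hρ _ (Ideal.subset_span (Or.inr (Or.inl rfl)))
        rw [map_sub, map_one, sub_eq_zero, map_mul] at h1
        rw [coeff_map, hcoef fun m => Sum.inl m]
        exact right_ne_zero_of_mul_eq_one h1
      have hH : (H.map ρ.toRingHom).coeff m₂.1 ≠ 0 := by
        have h1 := hρ _ (Ideal.subset_span (Or.inr (Or.inr rfl)))
        rw [map_sub, map_one, sub_eq_zero, map_mul] at h1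
        rw [coeff_map, hcoef fun m => Sum.inr (Sum.inl m)]
        exact right_ne_zero_of_mul_eq_one h1
      exact (hP.isUnit_or_isUnit heq.symm).elim (not_isUnit_of_coeff hm₁ hG) (not_isUnit_of_coeff hm₂ hH)
    · obtain ⟨a, ha, ha'⟩ := exists_kill hinj (1 : R ⧸ J m₁ m₂) (Ω := Ω)
        ((not_nontrivial_iff_subsingleton.mp hne).elim _ _)
      refine ⟨a, ha, Ideal.Quotient.eq_zero_iff_mem.mp ?_⟩
      rw [← MvPolynomial.algebraMap_eq, Ideal.Quotient.mk_algebraMap, Algebra.algebraMap_eq_smul_one]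
      exact ha'
  choose a ha haJ using hkill
  obtain ⟨m₀, hm₀, -, hc₀⟩ := exists_coeff_ne_zero (p := P.map (algebraMap T Ω))
    (fun h => hP.not_isUnit (isUnit_iff_totalDegree_zero.mpr ⟨hP.ne_zero, h⟩)) le_rfl
  rw [coeff_map] at hc₀
  refine ⟨P.coeff m₀ * ∏ p, a p, mul_ne_zero (fun h => hc₀ (by rw [h, map_zero]))
    (Finset.prod_ne_zero_iff.mpr fun p _ => ha p), fun F _ _ hF => ?_⟩
  rw [map_mul, map_prod] at hF
  let Q := P.map (algebraMap T F)
  have hQ : ¬ IsUnit Q := not_isUnit_of_coeff hm₀ (by rw [coeff_map]; exact left_ne_zero_of_mul hF)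
  refine ⟨hQ, fun u v huv => ?_⟩
  by_contra h
  push Not at h
  obtain ⟨hu, hv⟩ := h
  have hQ0 : Q ≠ 0 := fun h => left_ne_zero_of_mul hF (by
    rw [← coeff_map]; show Q.coeff m₀ = 0; rw [h, coeff_zero])
  have hu0 : u ≠ 0 := fun h => hQ0 (by show P.map _ = 0; rw [huv, h, zero_mul])
  have hv0 : v ≠ 0 := fun h => hQ0 (by show P.map _ = 0; rw [huv, h, mul_zero])
  have hdQ : u.totalDegree + v.totalDegree ≤ d := by
    rw [← totalDegree_mul_of_isDomain hu0 hv0, ← huv]
    exact Finset.sup_mono (support_map_subset _ _)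
  obtain ⟨m₁, hm₁, hd₁, hc₁⟩ := exists_coeff_ne_zero (p := u) (d := d)
    (fun h => hu (isUnit_iff_totalDegree_zero.mpr ⟨hu0, h⟩)) (by lia)
  obtain ⟨m₂, hm₂, hd₂, hc₂⟩ := exists_coeff_ne_zero (p := v) (d := d)
    (fun h => hv (isUnit_iff_totalDegree_zero.mpr ⟨hv0, h⟩)) (by lia)
  let val : V → F := Sum.elim (fun m => u.coeff m.1) (Sum.elim (fun m => v.coeff m.1)
    ![(u.coeff m₁)⁻¹, (v.coeff m₂)⁻¹])
  let ρ : R →ₐ[T] F := aeval val
  have hmap : ∀ (w : MvPolynomial (Fin n) F) (j : M → V), w.totalDegree ≤ d → (∀ m, val (j m) = w.coeff m.1) →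
      (∑ m : M, monomial m.1 (X (j m) : R)).map ρ.toRingHom = w := by
    intro w j hw hj
    ext m
    rw [coeff_map, coeff_sum]
    simp only [coeff_monomial]
    by_cases hm : m.degree ≤ d
    · rw [Finset.sum_eq_single (⟨m, hm⟩ : M) (fun m' _ h => if_neg fun e => h (Subtype.ext e))
        (fun h => absurd (Finset.mem_univ _) h), if_pos rfl]
      show ρ (X _) = _
      rw [aeval_X, hj]
    · rw [Finset.sum_eq_zero (fun m' _ => if_neg fun (e : m'.1 = m) => hm (e ▸ m'.2)), map_zero]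
      refine (notMem_support_iff.mp fun hmem => hm ?_).symm
      exact le_trans (le_totalDegree hmem) hw
  have hGu : G.map ρ.toRingHom = u := hmap u _ (by lia) fun m => rfl
  have hHv : H.map ρ.toRingHom = v := hmap v _ (by lia) fun m => rfl
  have hJ : J ⟨m₁, hd₁⟩ ⟨m₂, hd₂⟩ ≤ RingHom.ker ρ.toRingHom := Ideal.span_le.mpr <| by
    rintro r (⟨m, rfl⟩ | rfl | rfl)
    · show ρ.toRingHom _ = 0
      rw [map_sub, sub_eq_zero, ← coeff_map, map_mul, hGu, hHv, ← huv, coeff_map]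
      exact (ρ.commutes _).symm
    · show ρ _ = 0
      rw [map_sub, map_one, sub_eq_zero, map_mul, aeval_X, aeval_X]
      exact inv_mul_cancel₀ hc₁
    · show ρ _ = 0
      rw [map_sub, map_one, sub_eq_zero, map_mul, aeval_X, aeval_X]
      exact inv_mul_cancel₀ hc₂
  have := hJ (haJ (⟨⟨m₁, hd₁⟩, hm₁⟩, ⟨⟨m₂, hd₂⟩, hm₂⟩))
  exact Finset.prod_ne_zero_iff.mp (right_ne_zero_of_mul hF) _ (Finset.mem_univ _)
    ((ρ.commutes _).symm.trans this)

end GrothLib.GeomIrr6
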