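import Groth.Agent.Lib.GeomIrr6.Poly
import Groth.Agent.Lib.GeomIrr6.Hypersurface
import Mathlib.RingTheory.Polynomial.Basic
import Mathlib.RingTheory.TensorProduct.MvPolynomial

/-!
# Geometrically irreducible generic fibres give geometrically irreducible nearby fibres: algebras
-/

universe u

open TensorProduct

set_option linter.style.haveILetI false

noncomputable section

namespace GrothLib.GeomIrr6

theorem isPrime_nilradical_of_surjective {R S : Type u} [CommRing R] [CommRing S] (f : R →+* S)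
    (hf : Function.Surjective f) (hker : RingHom.ker f ≤ nilradical R) (h : (nilradical S).IsPrime) :
    (nilradical R).IsPrime := by
  haveI := h
  have : nilradical R = (nilradical S).comap f := by
    refine le_antisymm (fun x hx => ?_) fun x hx => ?_
    · exact mem_nilradical.mpr ((mem_nilradical.mp hx).map f)
    · obtain ⟨k, hk⟩ := mem_nilradical.mp (Ideal.mem_comap.mp hx)
      obtain ⟨j, hj⟩ := mem_nilradical.mp (hker (show x ^ k ∈ RingHom.ker f by rw [RingHom.mem_ker, map_pow, hk]))
      exact mem_nilradical.mpr ⟨k * j, by rw [pow_mul]; exact hj⟩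
  rw [this]
  infer_instance

theorem isPrime_nilradical_of_isDomain (S : Type u) [CommRing S] [IsDomain S] : (nilradical S).IsPrime := by
  rw [nilradical_eq_zero S]
  exact Ideal.isPrime_bot

/-- Base change of a hypersurface. -/
theorem exists_quotEquiv (T F : Type u) [CommRing T] [CommRing F] [Algebra T F] {σ : Type}
    (P : MvPolynomial σ T) :
    ∃ θ : F ⊗[T] (MvPolynomial σ T ⧸ Ideal.span {P}) ≃ₐ[F]
        MvPolynomial σ F ⧸ Ideal.span {P.map (algebraMap T F)},
      ∀ p, θ (1 ⊗ₜ Ideal.Quotient.mk _ p) = Ideal.Quotient.mk _ (p.map (algebraMap T F)) := by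
  let J := Ideal.span {P.map (algebraMap T F)}
  let f₀ : MvPolynomial σ T →ₐ[T] MvPolynomial σ F ⧸ J :=
    ((Ideal.Quotient.mkₐ F J).restrictScalars T).comp
      (MvPolynomial.aeval (R := T) (fun i => (MvPolynomial.X i : MvPolynomial σ F)))
  have hf₀ : ∀ p, f₀ p = Ideal.Quotient.mk J (p.map (algebraMap T F)) := fun p => by
    show Ideal.Quotient.mk J (MvPolynomial.aeval _ p) = _
    rw [← MvPolynomial.aeval_map_algebraMap F, MvPolynomial.aeval_X_left_apply]
  let f₁ : (MvPolynomial σ T ⧸ Ideal.span {P}) →ₐ[T] MvPolynomial σ F ⧸ J :=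
    Ideal.Quotient.liftₐ _ f₀ fun p hp => by
      obtain ⟨c, rfl⟩ := Ideal.mem_span_singleton.mp hp
      rw [hf₀, map_mul]
      exact Ideal.Quotient.eq_zero_iff_mem.mpr (Ideal.mul_mem_right _ _ (Ideal.mem_span_singleton_self _))
  let f : F ⊗[T] (MvPolynomial σ T ⧸ Ideal.span {P}) →ₐ[F] MvPolynomial σ F ⧸ J :=
    Algebra.TensorProduct.lift (Algebra.ofId F _) f₁ fun _ _ => .all _ _
  let g₀ : MvPolynomial σ F →ₐ[F] F ⊗[T] (MvPolynomial σ T ⧸ Ideal.span {P}) :=
    MvPolynomial.aeval (R := F) fun i =>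
      (1 : F) ⊗ₜ[T] Ideal.Quotient.mk (Ideal.span {P}) (MvPolynomial.X i : MvPolynomial σ T)
  have hg₀ : ∀ p : MvPolynomial σ T, g₀ (p.map (algebraMap T F)) = 1 ⊗ₜ Ideal.Quotient.mk _ p := fun p => by
    show MvPolynomial.aeval _ _ = _
    rw [MvPolynomial.aeval_map_algebraMap]
    have : MvPolynomial.aeval (R := T) (fun i => (1 : F) ⊗ₜ[T] Ideal.Quotient.mk (Ideal.span {P}) (MvPolynomial.X i)) =
        (Algebra.TensorProduct.includeRight (R := T) (A := F)).comp (Ideal.Quotient.mkₐ T (Ideal.span {P})) :=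
      MvPolynomial.algHom_ext fun i => by simp
    exact congr($this p)
  let g : (MvPolynomial σ F ⧸ J) →ₐ[F] F ⊗[T] (MvPolynomial σ T ⧸ Ideal.span {P}) :=
    Ideal.Quotient.liftₐ _ g₀ fun p hp => by
      obtain ⟨c, rfl⟩ := Ideal.mem_span_singleton.mp hp
      have h0 : g₀ (P.map (algebraMap T F)) = 0 := by
        rw [hg₀, Ideal.Quotient.eq_zero_iff_mem.mpr (Ideal.mem_span_singleton_self P)]
        exact TensorProduct.tmul_zero _ _
      exact (RingHom.ker g₀.toRingHom).mul_mem_right c h0
  have hf : ∀ p, f (1 ⊗ₜ Ideal.Quotient.mk _ p) = Ideal.Quotient.mk J (p.map (algebraMap T F)) := fun p => by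
    show algebraMap F _ 1 * f₁ (Ideal.Quotient.mk _ p) = _
    rw [map_one, one_mul]
    exact hf₀ p
  refine ⟨AlgEquiv.ofAlgHom f g ?_ ?_, hf⟩
  · refine Ideal.Quotient.algHom_ext F (MvPolynomial.algHom_ext fun i => ?_)
    show f (g₀ (MvPolynomial.X i)) = Ideal.Quotient.mk J (MvPolynomial.X i)
    rw [MvPolynomial.aeval_X, hf, MvPolynomial.map_X]
  · refine Algebra.TensorProduct.ext (Subsingleton.elim _ _) (Ideal.Quotient.algHom_ext T (MvPolynomial.algHom_ext fun i => ?_))
    show g (f (1 ⊗ₜ Ideal.Quotient.mk _ (MvPolynomial.X i))) = 1 ⊗ₜ Ideal.Quotient.mk _ (MvPolynomial.X i)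
    rw [hf]
    exact hg₀ _

/-- Base change of a basic open. -/
theorem exists_awayEquiv {T F B B' : Type u} [CommRing T] [CommRing F] [Algebra T F] [CommRing B] [Algebra T B]
    [CommRing B'] [Algebra F B'] (θ : F ⊗[T] B ≃ₐ[F] B') (h : B) :
    Nonempty (F ⊗[T] Localization.Away h ≃ₐ[F] Localization.Away (θ (1 ⊗ₜ h))) := by
  let h' := θ (1 ⊗ₜ h)
  letI : Algebra T B' := ((algebraMap F B').comp (algebraMap T F)).toAlgebra
  haveI : IsScalarTower T F B' := IsScalarTower.of_algebraMap_eq fun _ => rfl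
  let j : B' →ₐ[F] Localization.Away h' := IsScalarTower.toAlgHom F B' (Localization.Away h')
  let f₀ : B →ₐ[T] Localization.Away h' :=
    ((j.comp θ.toAlgHom).restrictScalars T).comp Algebra.TensorProduct.includeRight
  have hf₀ : ∀ y : Submonoid.powers h, IsUnit (f₀ y) := by
    rintro ⟨_, k, rfl⟩
    rw [map_pow]
    exact (IsLocalization.Away.algebraMap_isUnit (S := Localization.Away h') h').pow k
  let f : F ⊗[T] Localization.Away h →ₐ[F] Localization.Away h' :=
    Algebra.TensorProduct.lift (Algebra.ofId F _) (IsLocalization.liftAlgHom hf₀) fun _ _ => .all _ _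
  let ι : F ⊗[T] B →ₐ[F] F ⊗[T] Localization.Away h :=
    Algebra.TensorProduct.map (AlgHom.id F F) (IsScalarTower.toAlgHom T B _)
  let g₀ : B' →ₐ[F] F ⊗[T] Localization.Away h := ι.comp θ.symm.toAlgHom
  have hg₀ : ∀ y : Submonoid.powers h', IsUnit (g₀ y) := by
    rintro ⟨_, k, rfl⟩
    rw [map_pow]
    refine IsUnit.pow k ?_
    show IsUnit (ι (θ.symm (θ (1 ⊗ₜ h))))
    rw [AlgEquiv.symm_apply_apply]
    exact (IsLocalization.Away.algebraMap_isUnit (S := Localization.Away h) h).map
      (Algebra.TensorProduct.includeRight (R := T) (A := F))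
  let g : Localization.Away h' →ₐ[F] F ⊗[T] Localization.Away h := IsLocalization.liftAlgHom hg₀
  have hf : ∀ z, f (ι z) = j (θ z) := fun z => by
    have : f.comp ι = j.comp θ.toAlgHom := Algebra.TensorProduct.ext (Subsingleton.elim _ _) (AlgHom.ext fun b => by
      show f (ι (1 ⊗ₜ b)) = j (θ (1 ⊗ₜ b))
      simp [f, ι, f₀])
    exact congr($this z)
  have hg : ∀ z, g (j z) = ι (θ.symm z) := fun z => by simp [g, g₀, j]
  refine ⟨AlgEquiv.ofAlgHom f g ?_ ?_⟩
  · refine IsLocalization.algHom_ext (Submonoid.powers h') (AlgHom.ext fun z => ?_)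
    show f (g (j z)) = j z
    rw [hg, hf, AlgEquiv.apply_symm_apply]
  · refine Algebra.TensorProduct.ext (Subsingleton.elim _ _) (IsLocalization.algHom_ext (Submonoid.powers h) (AlgHom.ext fun b => ?_))
    show g (f (1 ⊗ₜ algebraMap B _ b)) = 1 ⊗ₜ algebraMap B _ b
    rw [show (1 : F) ⊗ₜ[T] algebraMap B (Localization.Away h) b = ι (1 ⊗ₜ b) from rfl, hf, hg,
      AlgEquiv.symm_apply_apply]

/-- A nonzero element of a domain is regular on nearby fibres. -/
theorem exists_injective_away (A C : Type u) [CommRing A] [IsDomain A] [CommRing C] [IsDomain C] [Algebra A C]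
    [Algebra.FiniteType A C] (h : C) (hh : h ≠ 0) :
    ∃ g : A, g ≠ 0 ∧ ∀ (F : Type u) [Field F] [Algebra A F], algebraMap A F g ≠ 0 →
      Function.Injective (Algebra.TensorProduct.map (AlgHom.id F F)
        (IsScalarTower.toAlgHom A C (Localization.Away h))) := by
  obtain ⟨g, -, hg, hfC⟩ := GrothLib.GenFree.gf_of_finiteType (R := A) C (C ⧸ Ideal.span {h}) (1 : A) one_ne_zero
  refine ⟨g, hg, fun F _ _ hF => ?_⟩
  haveI : Module.Free (Localization.Away g) (Localization.Away g ⊗[A] (C ⧸ Ideal.span {h})) := hfC.free_tensor _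
  let e : C →ₗ[A] C := (LinearMap.mulLeft C h).restrictScalars A
  have hinj := GrothLib.FibreDim6.lTensor_injective_of_flat_away e
    ((Submodule.mkQ (Ideal.span {h})).restrictScalars A)
    (fun x y hxy => mul_left_cancel₀ hh hxy)
    (Submodule.mkQ_surjective _) (fun x => by
      constructor
      · intro hx
        obtain ⟨c, hc⟩ := Ideal.mem_span_singleton'.mp ((Submodule.Quotient.mk_eq_zero _).mp hx)
        exact ⟨c, (mul_comm h c).trans hc⟩
      · rintro ⟨c, rfl⟩
        exact (Submodule.Quotient.mk_eq_zero _).mpr (Ideal.mul_mem_right c _ (Ideal.mem_span_singleton_self h)))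
    g F (isUnit_iff_ne_zero.mpr hF)
  have hreg : ∀ z : F ⊗[A] C, ((1 : F) ⊗ₜ[A] h) * z = 0 → z = 0 := fun z hz => by
    refine hinj (Eq.trans ?_ (map_zero _).symm)
    rw [← hz]
    clear hz
    induction z using TensorProduct.induction_on with
    | zero => simp
    | add a b ha hb => rw [map_add, ha, hb, mul_add]
    | tmul c l =>
      rw [Algebra.TensorProduct.tmul_mul_tmul, one_mul]
      rfl
  let M := (Submonoid.powers h).map (Algebra.TensorProduct.includeRight (R := A) (A := F) (B := C))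
  let eM := IsLocalization.tensorProductEquivOfMapIncludeRight A F (Submonoid.powers h) (Localization.Away h) (Localization M)
  refine fun z z' hzz => sub_eq_zero.mp ?_
  let φ := Algebra.TensorProduct.map (AlgHom.id F F) (IsScalarTower.toAlgHom A C (Localization.Away h))
  have hz : φ (z - z') = 0 := by rw [map_sub, sub_eq_zero]; exact hzz
  have hcomp : ∀ w, eM (φ w) = algebraMap (F ⊗[A] C) (Localization M) w := fun w => by
    have : eM.toAlgHom.comp φ = IsScalarTower.toAlgHom F (F ⊗[A] C) (Localization M) :=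
      Algebra.TensorProduct.ext (Subsingleton.elim _ _) (AlgHom.ext fun c => by simp [eM, φ])
    exact congr($this w)
  have hz' := (hcomp (z - z')).symm.trans (by rw [hz, map_zero] : eM (φ (z - z')) = 0)
  obtain ⟨⟨_, _, ⟨k, rfl⟩, rfl⟩, hk⟩ := (IsLocalization.map_eq_zero_iff M (Localization M) _).mp hz'
  change ((1 : F) ⊗ₜ[A] (h ^ k)) * (z - z') = 0 at hk
  generalize z - z' = y at hk ⊢
  induction k with
  | zero => simpa [Algebra.TensorProduct.one_def.symm] using hk
  | succ k ih =>
    refine ih (hreg _ ?_)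
    rw [← mul_assoc, Algebra.TensorProduct.tmul_mul_tmul, one_mul, ← pow_succ']
    exact hk

end GrothLib.GeomIrr6
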